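import Cfsg.Agent.PQ.Th.Defs

/-!
# PQ, box CAR, part 1: calculus of adjoints, filtration, parity, inverse series (helper43)
-/

set_option autoImplicit false
set_option linter.unusedSectionVars false

namespace Cfsg.Agent.PQ.Car

open Module Cfsg.Agent.PQ.Th
open scoped ComplexConjugate

variable {V : Type} [AddCommGroup V] [Module ℂ V] {H : HS V}

/-! ### supports -/

theorem b_mem {P : H.ι → Prop} {i : H.ι} (h : P i) : H.b i ∈ H.sup P := fun j hj => by
  rw [Basis.repr_self, Finsupp.single_eq_of_ne]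
  rintro rfl
  exact hj h

theorem map_sup {P : H.ι → Prop} {W : Type} [AddCommGroup W] [Module ℂ W] {A : V →ₗ[ℂ] W} {S : Submodule ℂ W}
    (h : ∀ i, P i → A (H.b i) ∈ S) {u : V} (hu : u ∈ H.sup P) : A u ∈ S := by
  rw [← H.b.linearCombination_repr u, Finsupp.linearCombination_apply, Finsupp.sum, map_sum]
  exact S.sum_mem fun i hi => by
    rw [map_smul]
    exact S.smul_mem _ (h i (by_contra fun hp => Finsupp.mem_support_iff.1 hi (hu i hp)))

theorem ext_sup {P : H.ι → Prop} {W : Type} [AddCommGroup W] [Module ℂ W] {A B : V →ₗ[ℂ] W}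
    (h : ∀ i, P i → A (H.b i) = B (H.b i)) {u : V} (hu : u ∈ H.sup P) : A u = B u :=
  sub_eq_zero.1 ((Submodule.mem_bot ℂ).1 (map_sup (A := A - B) (fun i hi => sub_eq_zero.2 (h i hi)) hu))

theorem hom_sup {P Q : H.ι → Prop} {A : End ℂ V} {d : ℤ} {s : ZMod 4} (h : H.Hom A d s)
    (hPQ : ∀ i j, P i → (H.rk j : ℤ) = H.rk i + d → H.df j = H.df i + s → Q j) {u : V} (hu : u ∈ H.sup P) :
    A u ∈ H.sup Q :=
  map_sup (S := H.sup Q) (fun i hi j hj => by_contra fun h0 =>
    hj (hPQ i j hi (by_contra fun e => h0 ((h i).1 j e)) (by_contra fun e => h0 ((h i).2 j e)))) hu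

theorem mk'_b (f : H.ι → V) (i : H.ι) : H.mk' f (H.b i) = f i := H.b.constr_basis ℂ f i

variable (H) in
/-- rank at most `n` -/
def le (n : ℤ) : Submodule ℂ V := H.sup fun i => (H.rk i : ℤ) ≤ n

variable (H) in
/-- parity: `0` = odd defect, `1` = even defect -/
def par (δ : ℤ) : Submodule ℂ V := H.sup fun i => H.dl i = δ

theorem le_b (i : H.ι) : H.b i ∈ le H (H.rk i) := b_mem le_rfl

theorem par_b (i : H.ι) : H.b i ∈ par H (H.dl i) := b_mem rfl

theorem le_neg {n : ℤ} {u : V} (hu : u ∈ le H n) (hn : n < 0) : u = 0 :=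
  H.b.repr.map_eq_zero_iff.1 (Finsupp.ext fun i => hu i (by omega))

theorem le_mono {n m : ℤ} {u : V} (hu : u ∈ le H n) (h : n ≤ m) : u ∈ le H m := fun i hi => hu i fun e => hi (e.trans h)

theorem exists_le (u : V) : ∃ n : ℕ, u ∈ le H n :=
  ⟨(H.b.repr u).support.sup H.rk, fun _ hi => by_contra fun h0 =>
    hi (Nat.cast_le.2 (Finset.le_sup (Finsupp.mem_support_iff.2 h0)))⟩

variable (H) in
/-- the operator raises the rank at most by `d` -/
def Deg (A : End ℂ V) (d : ℤ) : Prop := ∀ n, ∀ u ∈ le H n, A u ∈ le H (n + d)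

variable (H) in
/-- even operator -/
def Ev (A : End ℂ V) : Prop := ∀ δ, ∀ u ∈ par H δ, A u ∈ par H δ

variable (H) in
/-- odd operator -/
def Oo (A : End ℂ V) : Prop := ∀ δ, ∀ u ∈ par H δ, A u ∈ par H (1 - δ)

theorem deg_of {A : End ℂ V} {d : ℤ} {s : ZMod 4} (h : H.Hom A d s) : Deg H A d := fun _ _ hu =>
  hom_sup h (fun _ _ _ _ _ => by omega) hu

theorem ev_of {A : End ℂ V} {d : ℤ} (h : H.Hom A d 0) : Ev H A := fun _ _ hu =>
  hom_sup h (fun i j h1 _ h3 => by rw [← h1, HS.dl, HS.dl, h3, add_zero]) hu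

theorem oo_of {A : End ℂ V} {d : ℤ} {s : ZMod 4} (h : H.Hom A d s) (hs : Od s) : Oo H A := fun _ _ hu =>
  hom_sup h (fun i j h1 _ h3 => by
    have : ∀ s D : ZMod 4, Od s → (Od (D + s) ↔ ¬ Od D) := by unfold Od; decide
    rw [← h1, HS.dl, HS.dl, h3]
    by_cases e : Od (H.df i) <;> simp [e, this s _ hs]) hu

theorem Deg.zero {A : End ℂ V} {d n : ℤ} (h : Deg H A d) {u : V} (hu : u ∈ le H n) (hn : n + d < 0) : A u = 0 :=
  le_neg (h n u hu) hn

theorem dl_cases (i : H.ι) : H.dl i = 0 ∨ H.dl i = 1 := by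
  unfold HS.dl
  split_ifs <;> simp

theorem po_b (i : H.ι) : H.po (H.b i) = ((1 - H.dl i : ℤ) : ℂ) • H.b i := by
  rw [HS.po, mk'_b, HS.dl]
  split_ifs <;> simp

theorem pe_b (i : H.ι) : H.pe (H.b i) = (H.dl i : ℂ) • H.b i := by
  rw [HS.pe, mk'_b, HS.dl]
  split_ifs <;> simp

theorem po_par {δ : ℤ} {u : V} (hu : u ∈ par H δ) : H.po u = ((1 - δ : ℤ) : ℂ) • u :=
  ext_sup (B := ((1 - δ : ℤ) : ℂ) • LinearMap.id) (fun i hi => by rw [po_b, hi]; rfl) hu

theorem pe_par {δ : ℤ} {u : V} (hu : u ∈ par H δ) : H.pe u = (δ : ℂ) • u :=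
  ext_sup (B := (δ : ℂ) • LinearMap.id) (fun i hi => by rw [pe_b, hi]; rfl) hu

theorem J_par {δ : ℤ} {u : V} (hu : u ∈ par H δ) : H.J u = ((1 - 2 * δ : ℤ) : ℂ) • u := by
  rw [HS.J, LinearMap.sub_apply, po_par hu, pe_par hu, ← sub_smul]
  congr 1
  push_cast
  ring

theorem J_ev : Ev H H.J := fun _ _ hu => J_par hu ▸ Submodule.smul_mem _ _ hu

theorem Oo.po {A : End ℂ V} (h : Oo H A) : H.po * A = A * H.pe := H.b.ext fun i => by
  rw [End.mul_apply, End.mul_apply, po_par (h _ _ (par_b i)), pe_b, map_smul, sub_sub_cancel]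

theorem Oo.pe {A : End ℂ V} (h : Oo H A) : H.pe * A = A * H.po := H.b.ext fun i => by
  rw [End.mul_apply, End.mul_apply, pe_par (h _ _ (par_b i)), po_b, map_smul]

/-! ### the inner product -/

theorem ip_b (u : V) (i : H.ι) : H.ip u (H.b i) = H.b.repr u i := by
  classical
  rw [HS.ip, Finsupp.sum_eq_single i (fun j _ hj => by simp [hj.symm]) (by simp)]
  simp

theorem b_ip (i : H.ι) (v : V) : H.ip (H.b i) v = conj (H.b.repr v i) := by
  rw [HS.ip, Basis.repr_self, Finsupp.sum_single_index (zero_mul _), one_mul]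

variable (H) in
/-- the inner product as a linear form -/
noncomputable def ipl (v : V) : V →ₗ[ℂ] ℂ :=
  Finsupp.linearCombination ℂ (fun i => conj (H.b.repr v i)) ∘ₗ (H.b.repr : V →ₗ[ℂ] _)

theorem ipl_apply (v u : V) : ipl H v u = H.ip u v := rfl

theorem ip_conj (u v : V) : conj (H.ip u v) = H.ip v u := by
  have h := H.b.ext (f₁ := ipl H u) (f₂ := H.b.constr ℂ fun i => conj (H.ip u (H.b i))) fun i => by
    rw [ipl_apply, b_ip, Basis.constr_basis, ip_b]
  classical
  rw [HS.ip, HS.ip, Finsupp.sum_of_support_subset _ (Finset.subset_union_left (s₂ := (H.b.repr v).support)) _ (by simp),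
    Finsupp.sum_of_support_subset _ (Finset.subset_union_right (s₁ := (H.b.repr u).support)) _ (by simp), map_sum]
  exact Finset.sum_congr rfl fun i _ => by rw [map_mul, Complex.conj_conj, mul_comm]

theorem adj_symm {A B : End ℂ V} (h : H.Adj A B) : H.Adj B A := fun u v => by rw [← ip_conj, ← h, ip_conj]

theorem adj_of {A B : End ℂ V} (h : ∀ i j, H.ip (A (H.b i)) (H.b j) = H.ip (H.b i) (B (H.b j))) : H.Adj A B := by
  have h1 : ∀ j u, H.ip (A u) (H.b j) = H.ip u (B (H.b j)) := fun j =>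
    LinearMap.congr_fun (H.b.ext (f₁ := ipl H (H.b j) ∘ₗ A) (f₂ := ipl H (B (H.b j))) fun i => h i j)
  intro u v
  rw [← ip_conj, ← ip_conj (B v)]
  exact congrArg _ (LinearMap.congr_fun (H.b.ext (f₁ := ipl H (A u)) (f₂ := ipl H u ∘ₗ B) fun j => by
    rw [ipl_apply, ← ip_conj, h1, ip_conj]; rfl) v)

theorem adj_unique {A B B' : End ℂ V} (h : H.Adj A B) (h' : H.Adj A B') : B = B' :=
  LinearMap.ext fun v => H.b.repr.injective (Finsupp.ext fun i => by
    rw [← ip_b, ← ip_b, adj_symm h, adj_symm h'])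

theorem adj_one : H.Adj 1 1 := fun _ _ => rfl

theorem adj_mul {A B A' B' : End ℂ V} (h : H.Adj A B) (h' : H.Adj A' B') : H.Adj (A * A') (B' * B) := fun u v => by
  rw [End.mul_apply, h, h', End.mul_apply]

theorem ip_add_left (u u' v : V) : H.ip (u + u') v = H.ip u v + H.ip u' v := map_add (ipl H v) u u'

theorem ip_add_right (u v v' : V) : H.ip u (v + v') = H.ip u v + H.ip u v' := by
  rw [← ip_conj, ip_add_left, map_add, ip_conj, ip_conj]

theorem ip_smul_left (c : ℂ) (u v : V) : H.ip (c • u) v = c * H.ip u v := map_smul (ipl H v) c u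

theorem ip_smul_right (c : ℂ) (u v : V) : H.ip u (c • v) = conj c * H.ip u v := by
  rw [← ip_conj, ip_smul_left, map_mul, ip_conj]

theorem adj_add {A B A' B' : End ℂ V} (h : H.Adj A B) (h' : H.Adj A' B') : H.Adj (A + A') (B + B') := fun u v => by
  rw [LinearMap.add_apply, LinearMap.add_apply, ip_add_left, ip_add_right, h, h']

theorem adj_smul {A B : End ℂ V} (c : ℂ) (h : H.Adj A B) : H.Adj (c • A) (conj c • B) := fun u v => by
  rw [LinearMap.smul_apply, LinearMap.smul_apply, ip_smul_left, ip_smul_right, h, Complex.conj_conj]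

theorem adj_neg {A B : End ℂ V} (h : H.Adj A B) : H.Adj (-A) (-B) := by simpa using adj_smul (-1) h

theorem adj_sub {A B A' B' : End ℂ V} (h : H.Adj A B) (h' : H.Adj A' B') : H.Adj (A - A') (B - B') := by
  simpa only [sub_eq_add_neg] using adj_add h (adj_neg h')

theorem adj_zero : H.Adj 0 0 := by simpa using adj_smul 0 (adj_one (H := H))

theorem adj_sum {α : Type} (s : Finset α) {A B : α → End ℂ V} (h : ∀ a ∈ s, H.Adj (A a) (B a)) :
    H.Adj (∑ a ∈ s, A a) (∑ a ∈ s, B a) := by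
  classical
  induction s using Finset.induction_on with
  | empty => exact adj_zero
  | insert a s ha ih =>
    rw [Finset.sum_insert ha, Finset.sum_insert ha]
    exact adj_add (h a (Finset.mem_insert_self a s)) (ih fun b hb => h b (Finset.mem_insert_of_mem hb))

theorem adj_entry {A B : End ℂ V} (h : H.Adj A B) (i j : H.ι) :
    H.b.repr (B (H.b i)) j = conj (H.b.repr (A (H.b j)) i) := by rw [← ip_b, adj_symm h, b_ip]

theorem adj_hom {A B : End ℂ V} {d : ℤ} {s : ZMod 4} (h : H.Adj A B) (hA : H.Hom A d s) : H.Hom B (-d) (-s) := fun i =>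
  ⟨fun j hj => by rw [adj_entry h, (hA j).1 i fun e => hj (by omega), map_zero],
    fun j hj => by rw [adj_entry h, (hA j).2 i fun e => hj (by rw [e, add_neg_cancel_right]), map_zero]⟩

theorem adj_diag {A : End ℂ V} (c : H.ι → ℤ) (h : ∀ i, A (H.b i) = (c i : ℂ) • H.b i) : H.Adj A A := adj_of fun i j => by
  rw [h, h, ip_smul_left, ip_smul_right, map_intCast]
  by_cases e : i = j
  · rw [e]
  · rw [ip_b, Basis.repr_self, Finsupp.single_eq_of_ne' e, mul_zero, mul_zero]

theorem adj_po : H.Adj H.po H.po := adj_diag _ po_b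

theorem adj_pe : H.Adj H.pe H.pe := adj_diag _ pe_b

theorem adj_J : H.Adj H.J H.J := adj_sub adj_po adj_pe

/-! ### integrality -/

theorem b_Z (i : H.ι) : H.b i ∈ H.Z := fun j => by
  classical
  rw [Basis.repr_self, Finsupp.single_apply]
  split_ifs
  exacts [⟨1, by simp⟩, ⟨0, by simp⟩]

theorem itg_of {A : End ℂ V} (h : ∀ i, A (H.b i) ∈ H.Z) : H.Itg A := fun u hu => by
  rw [← H.b.linearCombination_repr u, Finsupp.linearCombination_apply, Finsupp.sum, map_sum]
  exact H.Z.sum_mem fun i _ => by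
    obtain ⟨n, hn⟩ := hu i
    rw [map_smul, hn, Int.cast_smul_eq_zsmul]
    exact H.Z.zsmul_mem (h i) n

theorem adj_itg {A B : End ℂ V} (h : H.Adj A B) (hA : H.Itg A) : H.Itg B := itg_of fun i j => by
  obtain ⟨n, hn⟩ := hA _ (b_Z j) i
  exact ⟨n, by rw [adj_entry h, hn, map_intCast]⟩

theorem itg_diag {A : End ℂ V} (c : H.ι → ℤ) (h : ∀ i, A (H.b i) = (c i : ℂ) • H.b i) : H.Itg A := itg_of fun i => by
  rw [h, Int.cast_smul_eq_zsmul]
  exact H.Z.zsmul_mem (b_Z i) _

theorem itg_J : H.Itg H.J := itg_diag _ fun i => J_par (par_b i)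

/-! ### inverse series -/

theorem inv_succ (u : ℕ → End ℂ V) (n : ℕ) : inv u (n + 1) = -∑ i ∈ Finset.range (n + 1), u (i + 1) * inv u (n - i) := by
  rw [inv, Finset.sum_range fun i => u (i + 1) * inv u (n - i)]

theorem inv_zero (u : ℕ → End ℂ V) : inv u 0 = 1 := by rw [inv]

open PowerSeries in
theorem mul_inv {u : ℕ → End ℂ V} (h : u 0 = 1) : mk u * mk (inv u) = 1 := by
  ext1 n
  rw [coeff_mul, Finset.Nat.sum_antidiagonal_eq_sum_range_succ fun i j => coeff i (mk u) * coeff j (mk (inv u)), coeff_one]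
  simp only [coeff_mk]
  cases n with
  | zero => simp [h, inv_zero]
  | succ n => simp [Finset.sum_range_succ' _ (n + 1), h, inv_succ]

open PowerSeries in
theorem inv_mul {u : ℕ → End ℂ V} (h : u 0 = 1) : mk (inv u) * mk u = 1 := by
  have h1 := mul_inv (inv_zero u)
  rw [← mul_one (mk u), ← h1, ← mul_assoc (mk u), mul_inv h, one_mul, h1]

theorem sum_inv {u : ℕ → End ℂ V} (h : u 0 = 1) (n : ℕ) :
    ∑ i ∈ Finset.range (n + 1), inv u i * u (n - i) = if n = 0 then 1 else 0 := by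
  have := congrArg (PowerSeries.coeff n) (inv_mul h)
  rwa [PowerSeries.coeff_mul, PowerSeries.coeff_one, Finset.Nat.sum_antidiagonal_eq_sum_range_succ
    fun i j => PowerSeries.coeff i (.mk (inv u)) * PowerSeries.coeff j (.mk u),
    Finset.sum_congr rfl fun _ _ => by rw [PowerSeries.coeff_mk, PowerSeries.coeff_mk]] at this

theorem sum_inv' {u : ℕ → End ℂ V} (h : u 0 = 1) (n : ℕ) :
    ∑ i ∈ Finset.range (n + 1), u (n - i) * inv u i = if n = 0 then 1 else 0 := by
  have := congrArg (PowerSeries.coeff n) (mul_inv h)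
  rw [PowerSeries.coeff_mul, PowerSeries.coeff_one, ← Finset.Nat.sum_antidiagonal_swap] at this
  simp only [PowerSeries.coeff_mk, Prod.fst_swap, Prod.snd_swap] at this
  rwa [Finset.Nat.sum_antidiagonal_eq_sum_range_succ fun i j => u j * inv u i] at this

theorem inv_succ' {u : ℕ → End ℂ V} (h : u 0 = 1) (n : ℕ) :
    inv u (n + 1) = -∑ i ∈ Finset.range (n + 1), inv u (n - i) * u (i + 1) := by
  have := sum_inv h (n + 1)
  rw [Finset.sum_range_succ, Nat.sub_self, h, mul_one, if_neg n.succ_ne_zero, ← Finset.sum_range_reflect] at this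
  rw [eq_neg_of_add_eq_zero_right this]
  refine congrArg _ (Finset.sum_congr rfl fun i hi => ?_)
  rw [Finset.mem_range] at hi
  congr 2
  omega

theorem inv_ind {P : ℕ → End ℂ V → Prop} (h1 : P 0 1) (hn : ∀ n A, P n A → P n (-A))
    (hs : ∀ n (s : Finset ℕ) (f : ℕ → End ℂ V), (∀ i ∈ s, P n (f i)) → P n (∑ i ∈ s, f i))
    (hm : ∀ n m A B, P n A → P m B → P (n + m) (A * B)) {u : ℕ → End ℂ V} (hu : ∀ n, P n (u n)) (n : ℕ) : P n (inv u n) := by
  induction n using Nat.strong_induction_on with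
  | _ n ih =>
    cases n with
    | zero => rwa [inv_zero]
    | succ n =>
      rw [inv_succ]
      refine hn _ _ (hs _ _ _ fun i hi => ?_)
      rw [Finset.mem_range] at hi
      have := hm _ _ _ _ (hu (i + 1)) (ih (n - i) (by omega))
      rwa [show i + 1 + (n - i) = n + 1 by omega] at this

theorem adj_inv {u v : ℕ → End ℂ V} (h : ∀ n, H.Adj (u n) (v n)) (h0 : v 0 = 1) (n : ℕ) : H.Adj (inv u n) (inv v n) := by
  induction n using Nat.strong_induction_on with
  | _ n ih =>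
    cases n with
    | zero => rw [inv_zero, inv_zero]; exact adj_one
    | succ n =>
      rw [inv_succ, inv_succ' h0]
      exact adj_neg (adj_sum _ fun i _ => adj_mul (h _) (ih _ (by omega)))

theorem ez_nat (u : ℕ → End ℂ V) (n : ℕ) : ez u n = u n := by simp [ez]

theorem ez_neg (u : ℕ → End ℂ V) {i : ℤ} (h : i < 0) : ez u i = 0 := if_neg (not_le.2 h)

open PowerSeries in
theorem ez_X (f : (End ℂ V)⟦X⟧) (l : ℤ) : ez (fun n => coeff n (X * f)) l = ez (fun n => coeff n f) (l - 1) := by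
  rcases lt_trichotomy l 0 with h | rfl | h
  · rw [ez_neg _ h, ez_neg _ (by omega)]
  · simp [ez]
  · obtain ⟨n, rfl⟩ : ∃ n : ℕ, l = (n + 1 : ℕ) := ⟨(l - 1).toNat, by omega⟩
    rw [ez_nat, coeff_succ_X_mul, Nat.cast_succ, add_sub_cancel_right, ez_nat]

open PowerSeries in
/-- a commutation rule for a series gives the rule for the inverse series -/
theorem flip {u : ℕ → End ℂ V} (h0 : u 0 = 1) {a₀ a₁ a₂ b₀ b₁ : End ℂ V}
    (h : ∀ l : ℤ, a₀ * ez u l + a₁ * ez u (l - 1) + a₂ * ez u (l - 2) = ez u l * b₀ + ez u (l - 1) * b₁) (l : ℤ) :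
    ez (inv u) l * a₀ + ez (inv u) (l - 1) * a₁ + ez (inv u) (l - 2) * a₂ = b₀ * ez (inv u) l + b₁ * ez (inv u) (l - 1) := by
  have e0 : ∀ (f g : (End ℂ V)⟦X⟧) (l : ℤ), ez (fun n => coeff n (f + g)) l =
      ez (fun n => coeff n f) l + ez (fun n => coeff n g) l := fun f g l => by
    unfold ez
    split_ifs <;> simp
  have e1 : ∀ (a : End ℂ V) (v : ℕ → End ℂ V) (l : ℤ), ez (fun n => coeff n (C a * PowerSeries.mk v)) l = a * ez v l := fun a v l => by
    unfold ez
    split_ifs <;> simp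
  have e2 : ∀ (a : End ℂ V) (v : ℕ → End ℂ V) (l : ℤ), ez (fun n => coeff n (PowerSeries.mk v * C a)) l = ez v l * a := fun a v l => by
    unfold ez
    split_ifs <;> simp
  have e3 : ∀ l : ℤ, l - 1 - 1 = l - 2 := fun l => by ring
  have h1 : C a₀ * PowerSeries.mk u + X * (C a₁ * PowerSeries.mk u) + X * (X * (C a₂ * PowerSeries.mk u)) = PowerSeries.mk u * C b₀ + X * (PowerSeries.mk u * C b₁) := by
    ext1 n
    rw [← ez_nat (fun n => coeff n _) n, ← ez_nat (fun n => coeff n (_ + _)) n]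
    simp only [e0, ez_X, e1, e2, e3, h]
  have h2 : PowerSeries.mk (inv u) * C a₀ + X * (PowerSeries.mk (inv u) * C a₁) + X * (X * (PowerSeries.mk (inv u) * C a₂)) =
      C b₀ * PowerSeries.mk (inv u) + X * (C b₁ * PowerSeries.mk (inv u)) := by
    have h3 := congrArg (fun f => PowerSeries.mk (inv u) * f * PowerSeries.mk (inv u)) h1
    have c : ∀ f : (End ℂ V)⟦X⟧, PowerSeries.mk (inv u) * (X * f) = X * (PowerSeries.mk (inv u) * f) := fun f => by
      rw [← mul_assoc, (commute_X (PowerSeries.mk (inv u))).eq, mul_assoc]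
    have c' : ∀ f : (End ℂ V)⟦X⟧, PowerSeries.mk (inv u) * (PowerSeries.mk u * f) = f := fun f => by rw [← mul_assoc, inv_mul h0, one_mul]
    simpa only [mul_add, add_mul, mul_assoc, c, c', mul_inv h0, mul_one] using h3
  simpa only [e0, ez_X, e1, e2, e3] using congrArg (fun f => ez (fun n => coeff n f) l) h2

end Cfsg.Agent.PQ.Car
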