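import Cfsg.Agent.PQ.Car.A

/-!
# PQ, box CAR, part 1: the operators `X`, `Y` (helper43)

`Fam` (commutation rules of `R`, `L` with the inverse series), `X_range`, `Y_range`, `Xg_inv`, `X_e`, `XY`, `core_st`, `core_ss`.
-/

set_option autoImplicit false
set_option linter.unusedSectionVars false
set_option maxHeartbeats 400000

namespace Cfsg.Agent.PQ.Car

open Module Cfsg.Agent.PQ.Th Finset

variable {V : Type} [AddCommGroup V] [Module ℂ V] {H : HS V} (C : Cyc H)

theorem sum_up (f : ℤ → V) (N : ℕ) (T : Finset ℤ) (c : ℤ) (h : ∀ m, f m ≠ 0 → m ∈ T ∧ c ≤ m ∧ m < c + N) :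
    ∑ j ∈ range N, f (c + j) = ∑ m ∈ T, f m :=
  sum_bij_ne_zero (fun j _ _ => c + j) (fun _ _ h2 => (h _ h2).1) (fun _ _ _ _ _ _ e => by omega)
    (fun m _ h2 => by
      have := h m h2
      have e : c + ((m - c).toNat : ℕ) = m := by omega
      exact ⟨(m - c).toNat, mem_range.2 (by omega), e.symm ▸ h2, e⟩)
    fun _ _ _ => rfl

theorem sum_down (f : ℤ → V) (N : ℕ) (T : Finset ℤ) (c : ℤ) (h : ∀ m, f m ≠ 0 → m ∈ T ∧ m ≤ c ∧ c < m + N) :
    ∑ j ∈ range N, f (c - j) = ∑ m ∈ T, f m :=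
  sum_bij_ne_zero (fun j _ _ => c - j) (fun _ _ h2 => (h _ h2).1) (fun _ _ _ _ _ _ e => by omega)
    (fun m _ h2 => by
      have := h m h2
      have e : c - ((c - m).toNat : ℕ) = m := by omega
      exact ⟨(c - m).toNat, mem_range.2 (by omega), e.symm ▸ h2, e⟩)
    fun _ _ _ => rfl

theorem ez_ind {P : ℤ → End ℂ V → Prop} {u : ℕ → End ℂ V} (h0 : ∀ l, P l 0) (h : ∀ n : ℕ, P n (u n)) (l : ℤ) :
    P l (ez u l) := by
  rcases lt_or_ge l 0 with e | e
  · rw [ez_neg _ e]; exact h0 l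
  · obtain ⟨n, rfl⟩ := Int.eq_ofNat_of_zero_le e
    rw [ez_nat]; exact h n

/-- the inverse series of `h` -/
noncomputable abbrev e (l : ℤ) : End ℂ V := ez (inv C.h) l

/-- the inverse series of `hs` -/
noncomputable abbrev es (l : ℤ) : End ℂ V := ez (inv C.hs) l

theorem hs0 : C.hs 0 = 1 := adj_unique (C.h_adj 0) (by rw [C.h0]; exact adj_one)

theorem hs_hom (k : ℕ) : H.Hom (C.hs k) (-k) 0 := by simpa using adj_hom (C.h_adj k) (C.h_hom k)

theorem L_adj (d : ℤ) : H.Adj (C.L d) (C.R (-d)) := by simpa using adj_symm (C.R_adj (-d))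

theorem L_hom (d : ℤ) : H.Hom (C.L d) d (-1) := by simpa using adj_hom (C.R_adj (-d)) (C.R_hom (-d))

theorem L_itg (d : ℤ) : H.Itg (C.L d) := by simpa using adj_itg (C.R_adj (-d)) (C.R_itg (-d))

theorem inv_deg {u : ℕ → End ℂ V} (c : ℤ) (h : ∀ n : ℕ, Deg H (u n) (c * n)) (n : ℕ) : Deg H (inv u n) (c * n) :=
  inv_ind (P := fun n A => Deg H A (c * n)) (fun _ _ hu => by simpa using hu) (fun _ _ h m u hu => neg_mem (h m u hu))
    (fun _ _ _ h m u hu => by rw [LinearMap.sum_apply]; exact Submodule.sum_mem _ fun i hi => h i hi m u hu)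
    (fun _ _ _ _ h h' m u hu => le_mono (h _ _ (h' m u hu)) (by push_cast; linarith)) h n

theorem inv_ev {u : ℕ → End ℂ V} (h : ∀ n : ℕ, Ev H (u n)) (n : ℕ) : Ev H (inv u n) :=
  inv_ind (P := fun _ A => Ev H A) (fun _ _ hu => hu) (fun _ _ h m u hu => neg_mem (h m u hu))
    (fun _ _ _ h m u hu => by rw [LinearMap.sum_apply]; exact Submodule.sum_mem _ fun i hi => h i hi m u hu)
    (fun _ _ _ _ h h' m u hu => h _ _ (h' m u hu)) h n

theorem inv_itg {u : ℕ → End ℂ V} (h : ∀ n : ℕ, H.Itg (u n)) (n : ℕ) : H.Itg (inv u n) :=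
  inv_ind (P := fun _ A => H.Itg A) (fun _ hu => hu) (fun _ _ h u hu => neg_mem (h u hu))
    (fun _ _ _ h u hu => by rw [LinearMap.sum_apply]; exact AddSubgroup.sum_mem _ fun i hi => h i hi u hu)
    (fun _ _ _ _ h h' u hu => h _ (h' u hu)) h n

theorem E_deg (n : ℕ) : Deg H (inv C.h n) n := by
  simpa using inv_deg (H := H) (u := C.h) 1 (fun n => by simpa using deg_of (C.h_hom n)) n

theorem Es_deg (n : ℕ) : Deg H (inv C.hs n) (-n) := by
  simpa using inv_deg (H := H) (u := C.hs) (-1) (fun n => by simpa using deg_of (hs_hom C n)) n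

theorem Es_ev (n : ℕ) : Ev H (inv C.hs n) := inv_ev (fun n => ev_of (hs_hom C n)) n

theorem E_ev (n : ℕ) : Ev H (inv C.h n) := inv_ev (fun n => ev_of (C.h_hom n)) n

theorem e_deg (l : ℤ) : Deg H (e C l) l := ez_ind (P := fun l A => Deg H A l) (fun _ _ _ _ => zero_mem _) (E_deg C) l

theorem es_deg (l : ℤ) : Deg H (es C l) (-l) :=
  ez_ind (P := fun l A => Deg H A (-l)) (fun _ _ _ _ => zero_mem _) (Es_deg C) l

theorem g2z (k l : ℤ) (N : ℕ) (hN : k < N) :
    ez C.hs k * ez C.h l = ∑ r ∈ range N, ((r : ℂ) + 1) • (ez C.h (l - r) * ez C.hs (k - r)) := by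
  rcases lt_or_ge k 0 with e | e
  · rw [ez_neg _ e, zero_mul, sum_eq_zero fun r _ => by rw [ez_neg C.hs (by omega), mul_zero, smul_zero]]
  rcases lt_or_ge l 0 with e' | e'
  · rw [ez_neg _ e', mul_zero, sum_eq_zero fun r _ => by rw [ez_neg C.h (by omega), zero_mul, smul_zero]]
  obtain ⟨k, rfl⟩ := Int.eq_ofNat_of_zero_le e
  obtain ⟨l, rfl⟩ := Int.eq_ofNat_of_zero_le e'
  rw [ez_nat, ez_nat, C.g2, ← sum_subset (range_subset_range.2 (by omega : min k l + 1 ≤ N)) fun r _ hr => ?_]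
  · refine sum_congr rfl fun r hr => ?_
    rw [mem_range] at hr
    rw [← Nat.cast_sub (by omega), ← Nat.cast_sub (by omega), ez_nat, ez_nat]
  · rw [mem_range] at hr
    rcases lt_or_ge k r with h | h
    · rw [ez_neg C.hs (by omega), mul_zero, smul_zero]
    · rw [ez_neg C.h (by omega), zero_mul, smul_zero]

theorem g2d (k l : ℤ) : ez C.hs k * ez C.h l + (-2 * ez C.hs (k - 1)) * ez C.h (l - 1) + ez C.hs (k - 2) * ez C.h (l - 2) =
    ez C.h l * ez C.hs k + ez C.h (l - 1) * 0 := by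
  rw [mul_assoc, g2z C k l (k.toNat + 1 + 1) (by omega), g2z C (k - 1) _ (k.toNat + 1) (by omega),
    g2z C (k - 2) _ k.toNat (by omega), sum_range_succ', sum_range_succ', sum_range_succ' _ k.toNat]
  have e1 : ∀ (x : ℤ) (r : ℕ), x - ((r + 1 + 1 : ℕ) : ℤ) = x - 2 - r := fun x r => by push_cast; ring
  have e2 : ∀ (x : ℤ) (r : ℕ), x - 1 - ((r + 1 : ℕ) : ℤ) = x - 2 - r := fun x r => by push_cast; ring
  have e3 : ∀ A : End ℂ V, -2 * A = (-2 : ℂ) • A := fun A => by rw [neg_mul, neg_smul, two_mul, two_smul]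
  simp only [e1, e2, e3, smul_add, smul_sum, smul_smul, Nat.cast_zero, sub_zero, zero_add, Nat.cast_one, mul_zero, add_zero]
  have h : ∑ r ∈ range k.toNat, (((r + 1 + 1 : ℕ) : ℂ) + 1) • (ez C.h (l - 2 - r) * ez C.hs (k - 2 - r)) +
      ∑ r ∈ range k.toNat, (-2 * (((r + 1 : ℕ) : ℂ) + 1)) • (ez C.h (l - 2 - r) * ez C.hs (k - 2 - r)) +
      ∑ r ∈ range k.toNat, ((r : ℂ) + 1) • (ez C.h (l - 2 - r) * ez C.hs (k - 2 - r)) = 0 := by
    rw [← sum_add_distrib, ← sum_add_distrib]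
    refine sum_eq_zero fun r _ => ?_
    rw [← add_smul, ← add_smul]
    exact smul_eq_zero_of_left (by push_cast; ring) _
  linear_combination (norm := module) h

/-- the Mackey rule for the inverse series -/
theorem es_e (k l : ℤ) : es C k * e C l + es C (k - 1) * (-2 * e C (l - 1)) + es C (k - 2) * e C (l - 2) = e C l * es C k := by
  have c : ∀ A B : End ℂ V, A * (-2 * B) = -2 * A * B := fun A B => by noncomm_ring
  have h := flip (hs0 C) (a₀ := e C l) (a₁ := -2 * e C (l - 1)) (a₂ := e C (l - 2)) (b₀ := e C l) (b₁ := 0) (fun k => by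
    have := flip C.h0 (g2d C k) l
    rw [c] at this
    rw [this, zero_mul, mul_zero]) k
  rwa [zero_mul, add_zero] at h

theorem Es_comm (hh : ∀ i j, Commute (C.hs i) (C.hs j)) (i j : ℕ) : Commute (inv C.hs i) (inv C.hs j) := by
  have key : ∀ a : End ℂ V, (∀ j, Commute a (C.hs j)) → ∀ j, Commute (inv C.hs j) a := fun a ha j => by
    have := flip (hs0 C) (a₀ := a) (a₁ := 0) (a₂ := 0) (b₀ := a) (b₁ := 0) (fun l => by
      simpa using ez_ind (P := fun _ A => a * A = A * a) (fun _ => by simp) ha l) j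
    exact (by simpa [ez_nat] using this : _ * _ = _ * _)
  exact key _ (fun k => key _ (hh k) j) i

/-- the commutation rules of a family of odd operators -/
structure Fam (A : ℤ → End ℂ V) : Prop where
  deg : ∀ d, Deg H (A d) d
  oo : ∀ d, Oo H (A d)
  k1 : ∀ d l, A d * e C l = e C l * A d - e C (l - 1) * A (d + 1)
  k2 : ∀ d l, es C l * A d = A d * es C l - A (d - 1) * es C (l - 1)

theorem fam_of {A : ℤ → End ℂ V} {s : ZMod 4} (h : ∀ d, H.Hom (A d) d s) (hs : Od s)
    (h1 : ∀ (d : ℤ) (k : ℕ), A d * C.h k = ∑ i ∈ range (k + 1), C.h i * A (d + k - i))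
    (h2 : ∀ (d : ℤ) (k : ℕ), C.hs k * A d = ∑ i ∈ range (k + 1), A (d - k + i) * C.hs i) : Fam C A := by
  have key : ∀ {P : ℤ → Prop}, (∀ l < 0, P l) → P 0 → (∀ k : ℕ, P (k + 1 : ℕ)) → ∀ l, P l := fun h h0 h1 l => by
    rcases lt_or_ge l 0 with e | e
    · exact h l e
    · obtain ⟨n, rfl⟩ := Int.eq_ofNat_of_zero_le e
      cases n
      exacts [h0, h1 _]
  refine ⟨fun d => deg_of (h d), fun d => oo_of (h d) hs, fun d l => ?_, fun d l => ?_⟩
  · have := flip C.h0 (a₀ := A d) (a₁ := -A (d + 1)) (a₂ := 0) (b₀ := A d) (b₁ := 0) (key (fun l hl => ?_) ?_ fun k => ?_) l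
    · simpa [sub_eq_add_neg] using this.symm
    · simp [ez_neg _ hl, ez_neg C.h (by omega : l - 1 < 0)]
    · simp [ez, C.h0]
    · rw [ez_nat, show ((k + 1 : ℕ) : ℤ) - 1 = k by omega, ez_nat, neg_mul, h1, h1, sum_range_succ _ (k + 1)]
      simp [add_assoc, add_comm (1 : ℤ)]
  · have := flip (hs0 C) (a₀ := A d) (a₁ := 0) (a₂ := 0) (b₀ := A d) (b₁ := -A (d - 1)) (key (fun l hl => ?_) ?_ fun k => ?_) l
    · simpa [sub_eq_add_neg] using this
    · simp [ez_neg _ hl, ez_neg C.hs (by omega : l - 1 < 0)]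
    · simp [ez, hs0 C]
    · rw [ez_nat, show ((k + 1 : ℕ) : ℤ) - 1 = k by omega, ez_nat, mul_neg, h2, h2, sum_range_succ _ (k + 1)]
      simp [sub_sub, add_comm (1 : ℤ)]

theorem g3L (d : ℤ) (k : ℕ) : C.L d * C.h k = ∑ i ∈ range (k + 1), C.h i * C.L (d + k - i) := by
  have h := adj_mul (adj_symm (C.h_adj k)) (C.R_adj (-d))
  rw [C.g3', neg_neg] at h
  refine adj_unique h (adj_sum _ fun i _ => ?_)
  rw [show d + k - i = -(-d - k + i) by ring]
  exact adj_mul (C.R_adj _) (adj_symm (C.h_adj i))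

theorem g3L' (d : ℤ) (k : ℕ) : C.hs k * C.L d = ∑ i ∈ range (k + 1), C.L (d - k + i) * C.hs i := by
  have h := adj_mul (C.R_adj (-d)) (C.h_adj k)
  rw [C.g3, neg_neg] at h
  refine adj_unique h (adj_sum _ fun i _ => ?_)
  rw [show d - k + i = -(-d + k - i) by ring]
  exact adj_mul (C.h_adj i) (C.R_adj _)

theorem famR : Fam C C.R := fam_of C C.R_hom (Or.inl rfl) C.g3 C.g3'

theorem famL : Fam C C.L := fam_of C (L_hom C) (Or.inr rfl) (g3L C) (g3L' C)

/-! ### the operators `X` -/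

variable (H) in
/-- `∑_j A_{d+j} w_j` -/
noncomputable def Xg (w : ℕ → End ℂ V) (A : ℤ → End ℂ V) (d : ℤ) : End ℂ V :=
  H.mk' fun i => ∑ j ∈ range (H.rk i + 1), A (d + j) (w j (H.b i))

theorem Xg_range {w : ℕ → End ℂ V} (hw : ∀ j : ℕ, Deg H (w j) (-j)) (A : ℤ → End ℂ V) (d : ℤ) {n : ℤ} {u : V}
    (hu : u ∈ le H n) {N : ℕ} (hN : n < N) : Xg H w A d u = ∑ j ∈ range N, A (d + j) (w j u) := by
  rw [ext_sup (B := ∑ j ∈ range N, A (d + j) * w j) (fun i hi => ?_) hu, LinearMap.sum_apply]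
  · rfl
  · rw [Xg, mk'_b, LinearMap.sum_apply]
    refine sum_subset (range_subset_range.2 (by omega)) fun j _ hj => ?_
    rw [mem_range] at hj
    rw [(hw j).zero (le_b i) (by omega), map_zero]

theorem Xg_inv {w v : ℕ → End ℂ V} (hw : ∀ j : ℕ, Deg H (w j) (-j)) (hv : ∀ j : ℕ, Deg H (v j) (-j))
    (h : ∀ n, ∑ i ∈ range (n + 1), w (n - i) * v i = if n = 0 then 1 else 0) (A : ℤ → End ℂ V) (d : ℤ) :
    Xg H v (Xg H w A) d = A d := H.b.ext fun i => by
  rw [Xg, mk'_b, sum_congr rfl fun j hj => Xg_range hw A _ (hv j _ _ (le_b i)) (N := H.rk i + 1 - j) (by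
    rw [mem_range] at hj; omega), ← sum_range_diag_flip (H.rk i + 1) fun j k => A (d + j + k) (w k (v j (H.b i))),
    sum_congr rfl (g := fun m : ℕ => A (d + m) ((if m = 0 then 1 else 0 : End ℂ V) (H.b i))) fun m _ => ?_, sum_range_succ']
  · simp
  · rw [← h, LinearMap.sum_apply, map_sum]
    refine sum_congr rfl fun j hj => ?_
    rw [mem_range] at hj
    rw [show d + j + (m - j : ℕ) = d + m by omega]
    rfl

theorem X_range (A : ℤ → End ℂ V) (d : ℤ) {n : ℤ} {u : V} (hu : u ∈ le H n) {N : ℕ} (hN : n < N) :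
    C.X A d u = ∑ j ∈ range N, A (d + j) (inv C.hs j u) := Xg_range (Es_deg C) A d hu hN

theorem X_T (A : ℤ → End ℂ V) (d : ℤ) {n : ℤ} {u : V} (hu : u ∈ le H n) (T : Finset ℤ)
    (hT : ∀ m, d ≤ m → m ≤ d + n → m ∈ T) : C.X A d u = ∑ m ∈ T, A m (es C (m - d) u) := by
  rw [X_range C A d hu (N := n.toNat + 1) (by omega), ← sum_up _ (n.toNat + 1) T d fun m hm => ?_]
  · simp [ez_nat]
  · have h1 : d ≤ m := by_contra fun h => hm (by rw [es, ez_neg _ (by omega), LinearMap.zero_apply, map_zero])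
    have h2 : m ≤ d + n := by_contra fun h => hm (by rw [(es_deg C _).zero hu (by omega), map_zero])
    exact ⟨hT m h1 h2, h1, by omega⟩

theorem Y_range {A : ℤ → End ℂ V} (hA : ∀ d, Deg H (A d) d) (d : ℤ) {n : ℤ} {u : V} (hu : u ∈ le H n) {N : ℕ}
    (hN : n + d < N) : C.Y A d u = ∑ j ∈ range N, inv C.h j (A (d - j) u) := by
  rw [ext_sup (B := ∑ j ∈ range N, inv C.h j * A (d - j)) (fun i hi => ?_) hu, LinearMap.sum_apply]
  · rfl
  · have key : ∀ M : ℕ, H.rk i + d < M → ∑ j ∈ range M, inv C.h j (A (d - j) (H.b i)) =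
        ∑ j ∈ range (H.rk i + d + 1).toNat, inv C.h j (A (d - j) (H.b i)) := fun M hM =>
      (sum_subset (range_subset_range.2 (by omega)) fun j _ hj => by
        rw [mem_range] at hj
        rw [(hA _).zero (le_b i) (by omega), map_zero]).symm
    rw [Cyc.Y, mk'_b, LinearMap.sum_apply, key _ (by omega)]
    exact (key N (by omega)).symm

theorem Y_T {A : ℤ → End ℂ V} (hA : ∀ d, Deg H (A d) d) (d : ℤ) {n : ℤ} {u : V} (hu : u ∈ le H n) (T : Finset ℤ)
    (hT : ∀ m, -n ≤ m → m ≤ d → m ∈ T) : C.Y A d u = ∑ m ∈ T, e C (d - m) (A m u) := by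
  rw [Y_range C hA d hu (N := (n + d).toNat + 1) (by omega), ← sum_down _ ((n + d).toNat + 1) T d fun m hm => ?_]
  · simp [ez_nat]
  · have h1 : m ≤ d := by_contra fun h => hm (by rw [e, ez_neg _ (by omega), LinearMap.zero_apply])
    have h2 : -n ≤ m := by_contra fun h => hm (by rw [(hA _).zero hu (by omega), map_zero])
    exact ⟨hT m h2 h1, h1, by omega⟩

theorem X_shift (A : ℤ → End ℂ V) (a c : ℤ) : C.X (fun m => A (m + c)) a = C.X A (a + c) := by
  simp only [Cyc.X, add_right_comm a]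

theorem X_left (A : ℤ → End ℂ V) (B : End ℂ V) (a : ℤ) : B * C.X A a = C.X (fun m => B * A m) a :=
  H.b.ext fun i => by simp [Cyc.X, mk'_b]

theorem X_add (A B : ℤ → End ℂ V) (a : ℤ) : C.X (fun m => A m + B m) a = C.X A a + C.X B a :=
  H.b.ext fun i => by simp [Cyc.X, mk'_b, sum_add_distrib]

theorem X_sub (A B : ℤ → End ℂ V) (a : ℤ) : C.X (fun m => A m - B m) a = C.X A a - C.X B a :=
  H.b.ext fun i => by simp [Cyc.X, mk'_b]

theorem X_congr {A B : ℤ → End ℂ V} {δ : ℤ} (h : ∀ m, ∀ v ∈ par H δ, A m v = B m v) (a : ℤ) {u : V} (hu : u ∈ par H δ) :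
    C.X A a u = C.X B a u :=
  ext_sup (fun i hi => by
    rw [Cyc.X, Cyc.X, mk'_b, mk'_b]
    exact sum_congr rfl fun j _ => h _ _ (Es_ev C j _ _ (b_mem hi))) hu

theorem X_deg {A : ℤ → End ℂ V} (hA : ∀ d, Deg H (A d) d) (a : ℤ) : Deg H (C.X A a) a := fun n u hu => by
  rw [X_range C A a hu (N := n.toNat + 1) (by omega)]
  exact Submodule.sum_mem _ fun j _ => le_mono (hA _ _ _ (Es_deg C j _ _ hu)) (by omega)

theorem X_oo {A : ℤ → End ℂ V} (hA : ∀ d, Oo H (A d)) (a : ℤ) : Oo H (C.X A a) := fun _ _ hu =>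
  map_sup (fun i hi => by
    rw [Cyc.X, mk'_b]
    exact Submodule.sum_mem _ fun j _ => hA _ _ _ (Es_ev C j _ _ (b_mem hi))) hu

theorem Y_oo {A : ℤ → End ℂ V} (hA : ∀ d, Oo H (A d)) (a : ℤ) : Oo H (C.Y A a) := fun _ _ hu =>
  map_sup (fun i hi => by
    rw [Cyc.Y, mk'_b]
    exact Submodule.sum_mem _ fun j _ => E_ev C j _ _ (hA _ _ _ (b_mem hi))) hu

theorem X_itg {A : ℤ → End ℂ V} (hA : ∀ d, H.Itg (A d)) (a : ℤ) : H.Itg (C.X A a) := itg_of fun i => by
  rw [Cyc.X, mk'_b]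
  exact AddSubgroup.sum_mem _ fun j _ => hA _ _ (inv_itg (fun n => adj_itg (C.h_adj n) (C.h_itg n)) j _ (b_Z i))

theorem adj_XY {A B : ℤ → End ℂ V} (h : ∀ d, H.Adj (A d) (B (-d))) (hB : ∀ d, Deg H (B d) d) (d : ℤ) :
    H.Adj (C.X A d) (C.Y B (-d)) := adj_of fun i j => by
  have := adj_sum (range (H.rk i + (H.rk j - d).toNat + 1))
    (fun k _ => adj_mul (h (d + k)) (adj_symm (adj_inv C.h_adj (hs0 C) k))) (H.b i) (H.b j)
  rw [LinearMap.sum_apply, LinearMap.sum_apply] at this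
  rw [X_range C A d (le_b i) (N := H.rk i + (H.rk j - d).toNat + 1) (by omega),
    Y_range C hB _ (le_b j) (N := H.rk i + (H.rk j - d).toNat + 1) (by omega)]
  simpa only [neg_add', End.mul_apply] using this

theorem X_swap (hh : ∀ i j, Commute (C.hs i) (C.hs j)) (F : ℤ → ℤ → End ℂ V) (a b : ℤ) :
    C.X (fun t => C.X (fun r => F t r) b) a = C.X (fun r => C.X (fun t => F t r) a) b := H.b.ext fun i => by
  have h : ∀ j : ℕ, inv C.hs j (H.b i) ∈ le H (H.rk i) := fun j => le_mono (Es_deg C j _ _ (le_b i)) (by omega)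
  rw [X_range C _ _ (le_b i) (N := H.rk i + 1) (by omega), X_range C _ _ (le_b i) (N := H.rk i + 1) (by omega),
    sum_congr rfl fun j _ => X_range C _ _ (h j) (N := H.rk i + 1) (by omega),
    sum_congr rfl fun j _ => X_range C _ _ (h j) (N := H.rk i + 1) (by omega), sum_comm]
  exact sum_congr rfl fun j _ => sum_congr rfl fun k _ => congrArg _ (LinearMap.congr_fun (Es_comm C hh j k).eq _)

variable {C} {A B : ℤ → End ℂ V}

theorem X_right (hB : Fam C B) (A : ℤ → End ℂ V) (a b : ℤ) :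
    C.X A a * B b = C.X (fun m => A m * B b) a - C.X (fun m => A m * B (b - 1)) (a + 1) := H.b.ext fun i => by
  have hT : ∀ m, a ≤ m → m ≤ a + H.rk i + b.natAbs + 1 → m ∈ Icc a (a + H.rk i + b.natAbs + 1) := fun m h h' =>
    mem_Icc.2 ⟨h, h'⟩
  rw [End.mul_apply, LinearMap.sub_apply, X_T C _ _ (hB.deg b _ _ (le_b i)) _ fun m h h' => hT m h (by omega),
    X_T C _ _ (le_b i) _ fun m h h' => hT m h (by omega), X_T C _ _ (le_b i) _ fun m h h' => hT m (by omega) (by omega),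
    ← sum_sub_distrib]
  refine sum_congr rfl fun m _ => ?_
  rw [← End.mul_apply (es C _), hB.k2, ← sub_sub]
  simp

theorem X_e (hA : Fam C A) (a l : ℤ) : C.X A a * e C l - C.X A (a + 1) * e C (l - 1) = e C l * C.X A a := by
  have step : ∀ a l, C.X A a * e C l - C.X A (a + 1) * e C (l - 1) - e C l * C.X A a =
      C.X A (a + 1) * e C (l - 1) - C.X A (a + 1 + 1) * e C (l - 1 - 1) - e C (l - 1) * C.X A (a + 1) := fun a l =>
    H.b.ext fun i => by
      have hT : ∀ m, a ≤ m → m ≤ a + H.rk i + l.natAbs → m ∈ Icc a (a + H.rk i + l.natAbs) := fun m h h' => mem_Icc.2 ⟨h, h'⟩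
      have h1 := X_T C (fun m => A (m + 1)) a (le_b i) _ fun m h h' => hT m h (by omega)
      rw [X_shift] at h1
      simp only [LinearMap.sub_apply, End.mul_apply]
      rw [h1, X_T C _ _ (e_deg C l _ _ (le_b i)) _ fun m h h' => hT m h (by omega),
        X_T C _ _ (e_deg C _ _ _ (le_b i)) _ fun m h h' => hT m (by omega) (by omega),
        X_T C _ _ (e_deg C _ _ _ (le_b i)) _ fun m h h' => hT m (by omega) (by omega),
        X_T C _ _ (le_b i) _ fun m h h' => hT m h (by omega), map_sum, map_sum]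
      simp only [← sum_sub_distrib]
      refine sum_congr rfl fun m _ => ?_
      have h2 := congrArg (fun f => A m * f) (es_e C (m - a) l)
      simp only [← mul_assoc (A m) (e C l), hA.k1] at h2
      have h3 : A m * (es C (m - a) * e C l) - A m * (es C (m - a - 1) * e C (l - 1)) - e C l * (A m * es C (m - a)) =
          A m * (es C (m - a - 1) * e C (l - 1)) - A m * (es C (m - a - 2) * e C (l - 2)) -
            e C (l - 1) * (A (m + 1) * es C (m - a)) := by
        linear_combination (norm := noncomm_ring) h2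
      simpa only [LinearMap.sub_apply, End.mul_apply, sub_sub m a, sub_sub l, add_assoc a, one_add_one_eq_two] using
        LinearMap.congr_fun h3 (H.b i)
  have key : ∀ (r : ℕ) (a l : ℤ), l < r → C.X A a * e C l - C.X A (a + 1) * e C (l - 1) - e C l * C.X A a = 0 := fun r => by
    induction r with
    | zero => exact fun a l h => by simp [ez_neg _ h, ez_neg (inv C.h) (by omega : l - 1 < 0)]
    | succ r ih => exact fun a l h => (step a l).trans (ih _ _ (by omega))
  exact sub_eq_zero.1 (key (l.toNat + 1) a l (by omega))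

theorem XY (hA : Fam C A) (hB : Fam C B) {n : ℤ} {u : V} (hu : u ∈ le H n) {N : ℕ} (a b : ℤ) (hN : n + b < N) :
    C.X A a (C.Y B b u) = ∑ j ∈ range N, inv C.h j (C.X (fun t => A t * B (b - j)) a u) := by
  suffices key : ∀ (r : ℕ) a b, n + b < r → n + b < N →
      C.X A a (C.Y B b u) = ∑ j ∈ range N, inv C.h j (C.X (fun t => A t * B (b - j)) a u) from
    key ((n + b).toNat + 1) a b (by omega) hN
  intro r
  induction r with
  | zero =>
    intro a b h _
    rw [Y_range C hB.deg b hu h, sum_range_zero, map_zero, sum_eq_zero fun j _ => ?_]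
    rw [X_range C _ _ hu (N := n.toNat + 1) (by omega), sum_eq_zero fun k _ => ?_, map_zero]
    rw [End.mul_apply, (hB.deg _).zero (Es_deg C k _ _ hu) (by omega), map_zero]
  | succ r ih =>
    intro a b h hN
    have h1 : C.X A a (C.Y B b u) - C.X A (a + 1) (C.Y B (b - 1) u) = ∑ j ∈ range N, inv C.h j (C.X A a (B (b - j) u)) := by
      rw [Y_T C hB.deg b hu (Icc (-n) b) fun m h h' => mem_Icc.2 ⟨h, h'⟩,
        Y_T C hB.deg (b - 1) hu (Icc (-n) b) fun m h h' => mem_Icc.2 ⟨h, by omega⟩, map_sum, map_sum, ← sum_sub_distrib,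
        sum_congr rfl (g := fun m => e C (b - m) (C.X A a (B m u))) fun m _ => by
          rw [sub_right_comm]
          exact LinearMap.congr_fun (X_e hA a (b - m)) _, ← sum_down _ N _ b fun m hm => ?_]
      · simp [ez_nat]
      · have h1 : m ≤ b := by_contra fun h => hm (by rw [e, ez_neg _ (by omega), LinearMap.zero_apply])
        have h2 : -n ≤ m := by_contra fun h => hm (by rw [(hB.deg _).zero hu (by omega), map_zero, map_zero])
        exact ⟨mem_Icc.2 ⟨h2, h1⟩, h1, by omega⟩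
    rw [eq_add_of_sub_eq h1, ih _ _ (by omega) (by omega), ← sum_add_distrib]
    refine sum_congr rfl fun j _ => ?_
    rw [← map_add, ← End.mul_apply (C.X A a), X_right hB, sub_right_comm b, LinearMap.sub_apply, sub_add_cancel]

variable (C) in
/-- `K_s = ∑_j h_{s+j} hs_j` -/
noncomputable def K (s : ℤ) : End ℂ V := Xg H C.hs (ez C.h) s

theorem gRL (a b δ : ℤ) (u : V) (hu : u ∈ par H δ) : C.L b (C.R a u) + C.R (a + δ) (C.L (b - δ) u) = K C (a + b) u :=
  ext_sup (A := C.L b * C.R a + C.R (a + δ) * C.L (b - δ)) (fun i hi => by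
    have := C.g4 b (-a) i
    rw [neg_neg, hi, sub_neg_eq_add, sub_neg_eq_add, add_comm δ, add_comm b] at this
    rw [K, Xg, mk'_b]
    exact this) hu

theorem gLR (a b δ : ℤ) (u : V) (hu : u ∈ par H δ) : C.R b (C.L a u) + C.L (a + δ) (C.R (b - δ) u) = K C (a + b) u := by
  have := gRL (C := C) (b - δ) (a + δ) δ u hu
  rwa [sub_add_cancel, add_sub_cancel_right, add_comm (C.L _ _), show b - δ + (a + δ) = a + b by ring] at this

theorem core_st (hA : Fam C A) (hB : Fam C B)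
    (g : ∀ a b δ, ∀ u ∈ par H δ, B b (A a u) + A (a + δ) (B (b - δ) u) = K C (a + b) u) (a b : ℤ) {δ : ℤ} {u : V}
    (hu : u ∈ par H δ) : C.Y B b (C.X A a u) + C.X A (a + δ) (C.Y B (b - δ) u) = if a + b = 0 then u else 0 := by
  obtain ⟨n, hn⟩ := exists_le (H := H) u
  obtain ⟨N, h1, h2⟩ : ∃ N : ℕ, n + a + b < N ∧ n + (b - δ) < N :=
    ⟨(n + a + b).toNat + (n + (b - δ)).toNat + 1, by omega, by omega⟩
  rw [Y_range C hB.deg b (X_deg C hA.deg a _ _ hn) h1, XY hA hB hn _ _ h2, ← sum_add_distrib,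
    sum_congr rfl (g := fun j => inv C.h j (ez C.h (a + b - j) u)) fun j _ => ?_]
  · rcases lt_or_ge (a + b) 0 with h | h
    · rw [if_neg h.ne, sum_eq_zero fun j _ => by rw [ez_neg _ (by omega), LinearMap.zero_apply, map_zero]]
    obtain ⟨s, hs⟩ := Int.eq_ofNat_of_zero_le h
    have h3 := LinearMap.congr_fun (sum_inv C.h0 s) u
    rw [LinearMap.sum_apply] at h3
    rw [hs, ← sum_subset (range_subset_range.2 (by omega : s + 1 ≤ N)) fun j _ hj => ?_,
      sum_congr rfl fun j hj => by rw [← Nat.cast_sub (Nat.le_of_lt_succ (mem_range.1 hj)), ez_nat]]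
    · refine h3.trans ?_
      by_cases h0 : s = 0 <;> simp [h0]
    · rw [mem_range] at hj
      rw [ez_neg _ (by omega), LinearMap.zero_apply, map_zero]
  · rw [← map_add, ← End.mul_apply (B _), X_left, ← X_shift, ← LinearMap.add_apply, ← X_add,
      X_congr C (B := fun m => K C (m + (b - j))) (fun m v hv => by rw [← g m _ δ v hv, sub_right_comm]; rfl) a hu, X_shift,
      add_sub_assoc]
    exact congrArg _ (LinearMap.congr_fun
      (Xg_inv (fun j => deg_of (hs_hom C j)) (Es_deg C) (sum_inv' (hs0 C)) (ez C.h) _) u)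

theorem XX (hA : Fam C A) (B : ℤ → End ℂ V) (a b : ℤ) :
    C.X B b * C.X A a = C.X (fun t => C.X (fun r => B r * A t - B (r + 1) * A (t - 1)) b) a := by
  rw [X_left]
  congr 1
  funext t
  rw [X_right hA, X_sub, ← X_shift]

theorem core_ss (hh : ∀ i j, Commute (C.hs i) (C.hs j)) (a b : ℤ) {δ : ℤ} {u : V} (hu : u ∈ par H δ) :
    C.X C.L b (C.X C.R a u) = C.X C.R (a + (δ - 1)) (C.X C.L (b + (1 - δ)) u) := by
  rw [← End.mul_apply (C.X C.L b), ← End.mul_apply (C.X C.R _), XX (famR C), XX (famL C), ← X_shift C _ b]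
  simp only [← X_shift C _ a]
  rw [X_swap C hh _ b a]
  refine X_congr C (fun t v hv => X_congr C (fun r w hw => ?_) b hv) a hu
  have h1 := gRL (C := C) t r δ w hw
  have h2 := gRL (C := C) (t - 1) (r + 1) δ w hw
  rw [show t - 1 + (r + 1) = t + r by ring, ← h1, show t - 1 + δ = t + (δ - 1) by ring, add_sub_assoc] at h2
  simp only [LinearMap.sub_apply, End.mul_apply, show t + (δ - 1) + 1 = t + δ by ring, show r + (1 - δ) - 1 = r - δ by ring]
  linear_combination (norm := module) -h2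

end Cfsg.Agent.PQ.Car
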