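import Cfsg.Agent.PQ.Car.B
import Cfsg.Agent.PQ.Car2.B

/-!
# PQ, box CAR: `adj`, `itg_s`, `itg_t`, `st1`, `s12`, and with part 2 `car`, `boxCAR` (helper43)
-/

set_option autoImplicit false
set_option linter.unusedSectionVars false
set_option maxHeartbeats 400000

namespace Cfsg.Agent.PQ.Car

open Module Cfsg.Agent.PQ.Th Finset
open scoped ComplexConjugate

variable {V : Type} [AddCommGroup V] [Module ℂ V] {H : HS V} (C : Cyc H)

theorem mv_single (s : ℤ) (A : ℤ → End ℂ V) (M : ℤ) (u : V) :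
    mv s A (Finsupp.single M u) = Finsupp.single (M + s) (A M u) := by simp [mv]

theorem fock_b (x : H.fock.ι) : H.fock.b x = Finsupp.single x.1 (H.b x.2) :=
  congrFun (Finsupp.coe_basis fun _ : ℤ => H.b) x

theorem fock_repr (g : ℤ →₀ V) (x : H.fock.ι) : H.fock.b.repr g x = H.b.repr (g x.1) x.2 :=
  Finsupp.basis_repr (fun _ : ℤ => H.b) g x

theorem fock_ext {A B : End ℂ (ℤ →₀ V)} (h : ∀ M i, A (Finsupp.single M (H.b i)) = B (Finsupp.single M (H.b i))) : A = B :=
  H.fock.b.ext fun x => by rw [fock_b]; exact h _ _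

theorem single_Z (M : ℤ) {u : V} (hu : u ∈ H.Z) : Finsupp.single M u ∈ H.fock.Z := fun x => by
  rw [fock_repr, Finsupp.single_apply]
  split_ifs
  exacts [hu _, ⟨0, by simp⟩]

theorem adj_mv (s : ℤ) {A B : ℤ → End ℂ V} (h : ∀ M, H.Adj (A M) (B (M + s))) : H.fock.Adj (mv s A) (mv (-s) B) :=
  adj_of fun x y => by
    rw [ip_b, b_ip, fock_b, fock_b, mv_single, mv_single, fock_repr, fock_repr]
    by_cases e : x.1 + s = y.1
    · rw [← e, add_neg_cancel_right, Finsupp.single_eq_same, Finsupp.single_eq_same, adj_entry (h _), Complex.conj_conj]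
    · rw [Finsupp.single_eq_of_ne' e, Finsupp.single_eq_of_ne' fun e' => e (by omega)]
      simp

theorem up_single (A : ℤ → End ℂ V) (x M : ℤ) {δ : ℤ} (hδ : δ = 0 ∨ δ = 1) {u : V} (hu : u ∈ par H δ) :
    Cyc.up (H := H) A x (Finsupp.single M u) = Finsupp.single (M + 1 - δ) (A (x - M) u) := by
  rw [Cyc.up, LinearMap.add_apply, mv_single, mv_single, End.mul_apply, End.mul_apply, po_par hu, pe_par hu]
  rcases hδ with rfl | rfl <;> simp

theorem dn_single (A : ℤ → End ℂ V) (x M : ℤ) {δ : ℤ} (hδ : δ = 0 ∨ δ = 1) {u : V} (hu : u ∈ par H δ) :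
    Cyc.dn (H := H) A x (Finsupp.single M u) = Finsupp.single (M - δ) (A (M - δ - x) u) := by
  rw [Cyc.dn, LinearMap.add_apply, mv_single, mv_single, End.mul_apply, End.mul_apply, po_par hu, pe_par hu]
  rcases hδ with rfl | rfl <;> simp [sub_eq_add_neg]

theorem adj_up {A B : ℤ → End ℂ V} (h : ∀ d, H.Adj (A d) (B (-d))) (hB : ∀ d, Oo H (B d)) (x : ℤ) :
    H.fock.Adj (Cyc.up (H := H) A x) (Cyc.dn (H := H) B x) := by
  rw [Cyc.up, Cyc.dn, add_comm (mv 0 fun M => B (M - x) * H.po)]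
  refine adj_add (adj_mv 1 fun M => ?_) (adj_mv 0 fun M => ?_)
  · rw [add_sub_cancel_right, ← (hB _).po, ← neg_sub x]
    exact adj_mul (h _) adj_po
  · rw [add_zero, ← (hB _).pe, ← neg_sub x]
    exact adj_mul (h _) adj_pe

theorem itg_up {A : ℤ → End ℂ V} (h : ∀ d, H.Itg (A d)) (x : ℤ) : H.fock.Itg (Cyc.up (H := H) A x) := itg_of fun y => by
  rw [fock_b, up_single A x _ (dl_cases _) (par_b _)]
  exact single_Z _ (h _ _ (b_Z _))

theorem ps_false (x : ℤ) : C.ps (false, x) = Cyc.up (H := H) (C.X C.R) x := rfl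

theorem ps_true (x : ℤ) : C.ps (true, x) = Cyc.up (H := H) (fun d => C.X C.L d * H.J) x := rfl

theorem pt_false (x : ℤ) : C.pt (false, x) = Cyc.dn (H := H) (C.Y C.L) x := rfl

theorem pt_true (x : ℤ) : C.pt (true, x) = Cyc.dn (H := H) (fun d => H.J * C.Y C.R d) x := rfl

theorem XLJ_oo (d : ℤ) : Oo H (C.X C.L d * H.J) := fun _ _ hu => X_oo C (famL C).oo d _ _ (J_ev _ _ hu)

theorem JYR_oo (d : ℤ) : Oo H (H.J * C.Y C.R d) := fun _ _ hu => J_ev _ _ (Y_oo C (famR C).oo d _ _ hu)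

theorem adj : ∀ c, H.fock.Adj (C.ps c) (C.pt c)
  | (false, x) => by
    rw [ps_false, pt_false]
    exact adj_up (adj_XY C C.R_adj (famL C).deg) (Y_oo C (famL C).oo) x
  | (true, x) => by
    rw [ps_true, pt_true]
    exact adj_up (B := fun d => H.J * C.Y C.R d) (fun d => adj_mul (adj_XY C (L_adj C) (famR C).deg d) adj_J) (JYR_oo C) x

theorem itg_s : ∀ c, H.fock.Itg (C.ps c)
  | (false, x) => by
    rw [ps_false]
    exact itg_up (X_itg C C.R_itg) x
  | (true, x) => by
    rw [ps_true]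
    exact itg_up (A := fun d => C.X C.L d * H.J) (fun d u hu => X_itg C (L_itg C) d (H.J u) (itg_J u hu)) x

theorem itg_t (c : Site) : H.fock.Itg (C.pt c) := adj_itg (adj C c) (itg_s C c)

theorem up_dn {A B : ℤ → End ℂ V} (hA : ∀ d, Oo H (A d)) (hB : ∀ d, Oo H (B d))
    (h : ∀ a b i, B b (A a (H.b i)) + A (a + H.dl i) (B (b - H.dl i) (H.b i)) = if a + b = 0 then H.b i else 0) (x y : ℤ) :
    Cyc.up (H := H) A x * Cyc.dn (H := H) B y + Cyc.dn (H := H) B y * Cyc.up (H := H) A x = if x = y then 1 else 0 :=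
  fock_ext (H := H) fun M i => by
    have h1 := dl_cases i
    have h2 : 1 - H.dl i = 0 ∨ 1 - H.dl i = 1 := by omega
    rw [LinearMap.add_apply, End.mul_apply, End.mul_apply, dn_single B y M h1 (par_b i), up_single A x M h1 (par_b i),
      up_single A x _ h2 (hB _ _ _ (par_b i)), dn_single B y _ h2 (hA _ _ _ (par_b i)),
      show M - H.dl i + 1 - (1 - H.dl i) = M by ring, show M + 1 - H.dl i - (1 - H.dl i) = M by ring, ← Finsupp.single_add,
      add_comm (A _ _), show x - (M - H.dl i) = x - M + H.dl i by ring, sub_right_comm M, h, sub_add_sub_cancel]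
    simp only [sub_eq_zero]
    split_ifs <;> simp

theorem JJ (i : H.ι) : ((1 - 2 * H.dl i : ℤ) : ℂ) * ((1 - 2 * H.dl i : ℤ) : ℂ) = 1 := by
  rcases dl_cases i with h | h <;> rw [h] <;> norm_num

/-- the relations in one row -/
theorem st1 : ∀ (r : Bool) (x y : ℤ), C.ps (r, x) * C.pt (r, y) + C.pt (r, y) * C.ps (r, x) = if x = y then 1 else 0
  | false, x, y => up_dn (X_oo C (famR C).oo) (Y_oo C (famL C).oo)
      (fun a b i => core_st (famR C) (famL C) gRL a b (par_b i)) x y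
  | true, x, y => up_dn (XLJ_oo C) (JYR_oo C) (fun a b i => by
      have h1 := Y_oo C (famR C).oo b _ _ (X_oo C (famL C).oo a _ _ (par_b i))
      have h2 := Y_oo C (famR C).oo (b - H.dl i) _ _ (par_b i)
      have h3 : ((1 - 2 * (1 - H.dl i) : ℤ) : ℂ) = -((1 - 2 * H.dl i : ℤ) : ℂ) := by push_cast; ring
      rw [sub_sub_cancel] at h1
      simp only [End.mul_apply, J_par (par_b i), map_smul, J_par h1, J_par h2, smul_smul, h3, neg_mul_neg, JJ, one_smul]
      exact core_st (famL C) (famR C) gLR a b (par_b i)) x y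

/-- the creation operators of the two rows anticommute -/
theorem s12 (hh : ∀ i j, Commute (C.hs i) (C.hs j)) (x y : ℤ) :
    C.ps (false, x) * C.ps (true, y) + C.ps (true, y) * C.ps (false, x) = 0 := fock_ext (H := H) fun M i => by
  have h1 := dl_cases i
  have h2 : 1 - H.dl i = 0 ∨ 1 - H.dl i = 1 := by omega
  have h3 := X_oo C (famR C).oo (x - M) _ _ (par_b i)
  have h4 : ((1 - 2 * (1 - H.dl i) : ℤ) : ℂ) = -((1 - 2 * H.dl i : ℤ) : ℂ) := by push_cast; ring
  rw [LinearMap.add_apply, End.mul_apply, End.mul_apply, ps_false, ps_true, up_single _ y M h1 (par_b i),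
    up_single _ x M h1 (par_b i), up_single _ x _ h2 (XLJ_oo C _ _ _ (par_b i)), up_single _ y _ h2 h3, ← Finsupp.single_add,
    End.mul_apply, End.mul_apply, J_par (par_b i), J_par h3, map_smul, map_smul, map_smul, core_ss hh _ _ (par_b i), h4,
    show x - M + (H.dl i - 1) = x - (M + 1 - H.dl i) by ring, show y - (M + 1 - H.dl i) + (1 - H.dl i) = y - M by ring,
    neg_smul, add_neg_cancel, Finsupp.single_zero, LinearMap.zero_apply]

/-- **the canonical anticommutation relations** -/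
theorem car : CAR C := Car2.car_of ⟨adj C, st1 C, s12 C (Car2.hs_hs C)⟩ (itg_s C) (itg_t C)

theorem boxCAR : BoxCAR := fun _ _ _ _ C => car C

end Cfsg.Agent.PQ.Car
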